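import Mathlib
import Cfsg.Agent.Lib.Helper89.Twist

set_option autoImplicit false

namespace Cfsg.Agent.Helper89

open Matrix

section bform

variable {ι : Type} [Fintype ι]

/-- The bilinear form `v ⬝ M w` over the field with two elements. -/
def bform (M : Matrix ι ι (ZMod 2)) (v w : ι → ZMod 2) : ZMod 2 := v ⬝ᵥ (M *ᵥ w)

variable (M : Matrix ι ι (ZMod 2))

theorem bform_add_left (v v' w : ι → ZMod 2) : bform M (v + v') w = bform M v w + bform M v' w := by
  unfold bform; rw [add_dotProduct]

theorem bform_add_right (v w w' : ι → ZMod 2) : bform M v (w + w') = bform M v w + bform M v w' := by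
  unfold bform; rw [Matrix.mulVec_add, dotProduct_add]

@[simp] theorem bform_zero_left (w : ι → ZMod 2) : bform M 0 w = 0 := by
  unfold bform; rw [zero_dotProduct]

@[simp] theorem bform_zero_right (v : ι → ZMod 2) : bform M v 0 = 0 := by
  unfold bform; rw [Matrix.mulVec_zero, dotProduct_zero]

theorem bform_transpose (v w : ι → ZMod 2) : bform Mᵀ v w = bform M w v := by
  unfold bform
  rw [Matrix.mulVec_transpose, dotProduct_comm, ← Matrix.dotProduct_mulVec]

theorem bform_add_matrix (N : Matrix ι ι (ZMod 2)) (v w : ι → ZMod 2) :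
    bform (M + N) v w = bform M v w + bform N v w := by
  unfold bform; rw [Matrix.add_mulVec, dotProduct_add]

theorem bform_mulVec (g : Matrix ι ι (ZMod 2)) (v w : ι → ZMod 2) :
    bform M (g *ᵥ v) (g *ᵥ w) = bform (gᵀ * M * g) v w := by
  unfold bform
  rw [← Matrix.mulVec_mulVec, ← Matrix.mulVec_mulVec, Matrix.dotProduct_mulVec v gᵀ,
    Matrix.vecMul_transpose]

theorem zmod2_add_self (a : ZMod 2) : a + a = 0 := CharTwo.add_self_eq_zero a

omit [Fintype ι] in
theorem vec_add_self (v : ι → ZMod 2) : v + v = 0 := by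
  funext i; exact CharTwo.add_self_eq_zero (v i)

end bform

/-- The Heisenberg-type group on `ZMod 2 × (ι → ZMod 2)` with cocycle `bform M`. -/
@[ext]
structure Heis {ι : Type} [Fintype ι] (M : Matrix ι ι (ZMod 2)) where
  a : ZMod 2
  v : ι → ZMod 2

namespace Heis

variable {ι : Type} [Fintype ι] {M : Matrix ι ι (ZMod 2)}

instance : Mul (Heis M) := ⟨fun x y => ⟨x.a + y.a + bform M x.v y.v, x.v + y.v⟩⟩
instance : One (Heis M) := ⟨⟨0, 0⟩⟩
instance : Inv (Heis M) := ⟨fun x => ⟨x.a + bform M x.v x.v, x.v⟩⟩

@[simp] theorem mul_a (x y : Heis M) : (x * y).a = x.a + y.a + bform M x.v y.v := rfl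
@[simp] theorem mul_v (x y : Heis M) : (x * y).v = x.v + y.v := rfl
@[simp] theorem one_a : (1 : Heis M).a = 0 := rfl
@[simp] theorem one_v : (1 : Heis M).v = 0 := rfl
@[simp] theorem inv_a (x : Heis M) : (x⁻¹).a = x.a + bform M x.v x.v := rfl
@[simp] theorem inv_v (x : Heis M) : (x⁻¹).v = x.v := rfl

instance : Group (Heis M) :=
  Group.ofLeftAxioms
    (by
      intro x y z
      apply Heis.ext
      · simp only [mul_a, mul_v, bform_add_left, bform_add_right]; ring
      · simp only [mul_v, add_assoc])
    (by
      intro x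
      apply Heis.ext
      · simp
      · simp)
    (by
      intro x
      apply Heis.ext
      · simp only [mul_a, inv_a, inv_v, one_a]
        have := zmod2_add_self (x.a + bform M x.v x.v)
        linear_combination this
      · simp only [mul_v, inv_v, one_v]
        exact vec_add_self _)

/-- The central element. -/
def cc : Heis M := ⟨1, 0⟩

@[simp] theorem cc_a : (cc : Heis M).a = 1 := rfl
@[simp] theorem cc_v : (cc : Heis M).v = 0 := rfl

theorem cc_ne_one : (cc : Heis M) ≠ 1 := by
  intro h
  have := congrArg Heis.a h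
  simp at this

theorem cc_mul_cc : (cc : Heis M) * cc = 1 := by
  apply Heis.ext
  · simp only [mul_a, cc_a, cc_v, bform_zero_left, one_a]; decide
  · simp

theorem cc_central (x : Heis M) : x * cc = cc * x := by
  apply Heis.ext
  · simp; ring
  · simp

/-- underlying product -/
def equivProd : Heis M ≃ ZMod 2 × (ι → ZMod 2) where
  toFun x := (x.a, x.v)
  invFun t := ⟨t.1, t.2⟩
  left_inv _ := rfl
  right_inv _ := rfl

instance : Finite (Heis M) := Finite.of_equiv _ equivProd.symm

theorem card_eq : Nat.card (Heis M) = 2 * 2 ^ Fintype.card ι := by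
  classical
  rw [Nat.card_congr (equivProd (M := M)), Nat.card_prod]
  simp [Nat.card_eq_fintype_card]

theorem zmod2_cases (t : ZMod 2) : t = 0 ∨ t = 1 := by
  revert t; decide

/-- squares -/
theorem mul_self_eq (x : Heis M) : x * x = ⟨bform M x.v x.v, 0⟩ := by
  apply Heis.ext
  · simp only [mul_a]
    have := zmod2_add_self x.a
    linear_combination this
  · simp only [mul_v]; exact vec_add_self _

/-- commutation -/
theorem mul_eq_comm_mul (x y : Heis M) :
    x * y = ⟨bform M x.v y.v + bform M y.v x.v, 0⟩ * (y * x) := by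
  apply Heis.ext
  · simp only [mul_a, mul_v, bform_zero_left]
    have := zmod2_add_self (bform M y.v x.v)
    linear_combination -this
  · simp only [mul_v, zero_add]; exact add_comm _ _

theorem eq_one_or_cc_of_v_eq_zero (x : Heis M) (hx : x.v = 0) : x = 1 ∨ x = cc := by
  rcases zmod2_cases x.a with h | h
  · left; exact Heis.ext h hx
  · right; exact Heis.ext h hx

/-- `Heis M` is `Good` when the polar form `M + Mᵀ` is nondegenerate. -/
theorem good (hnd : ∀ v : ι → ZMod 2, (∀ w, bform M v w + bform M w v = 0) → v = 0) :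
    Good (Heis M) cc where
  ne_one := cc_ne_one
  sq := cc_mul_cc
  central := cc_central
  sqs := by
    intro g
    rw [mul_self_eq]
    exact eq_one_or_cc_of_v_eq_zero _ rfl
  comm := by
    intro g h
    have e : g * h * g⁻¹ * h⁻¹ = (g * h) * (h * g)⁻¹ := by group
    rw [e, mul_eq_comm_mul g h, mul_inv_cancel_right]
    exact eq_one_or_cc_of_v_eq_zero _ rfl
  cent := by
    intro g hg
    apply eq_one_or_cc_of_v_eq_zero
    apply hnd
    intro w
    have h1 := hg ⟨0, w⟩
    rw [mul_eq_comm_mul g ⟨0, w⟩] at h1
    have h2 : (⟨bform M g.v w + bform M w g.v, 0⟩ : Heis M) = 1 := by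
      have := mul_right_cancel (h1.trans (one_mul _).symm)
      exact this
    exact congrArg Heis.a h2

end Heis

end Cfsg.Agent.Helper89
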