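import Mathlib
import Cfsg.Prelude.Def_Classical
import Cfsg.Prelude.Def_KGroupFacts
import Cfsg.Agent.Lib.Helper89.OutES.Heis

set_option autoImplicit false
set_option linter.unusedSectionVars false

namespace Cfsg.Agent.Helper89

open Matrix

namespace Heis

variable {ι : Type} [Fintype ι] [DecidableEq ι] {M : Matrix ι ι (ZMod 2)}

/-- The quadratic form of the model. -/
def qf (M : Matrix ι ι (ZMod 2)) (v : ι → ZMod 2) : ZMod 2 := bform M v v

/-- Lift of a vector. -/
def lift (v : ι → ZMod 2) : Heis M := ⟨0, v⟩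

@[simp] theorem lift_a (v : ι → ZMod 2) : (lift v : Heis M).a = 0 := rfl
@[simp] theorem lift_v (v : ι → ZMod 2) : (lift v : Heis M).v = v := rfl

/-- The central elements `⟨t, 0⟩`. -/
def cen (t : ZMod 2) : Heis M := ⟨t, 0⟩

@[simp] theorem cen_a (t : ZMod 2) : (cen t : Heis M).a = t := rfl
@[simp] theorem cen_v (t : ZMod 2) : (cen t : Heis M).v = 0 := rfl

theorem cen_cases (t : ZMod 2) : (cen t : Heis M) = 1 ∨ (cen t : Heis M) = cc :=
  eq_one_or_cc_of_v_eq_zero _ rfl

theorem cen_mul (t : ZMod 2) (x : Heis M) : cen t * x = ⟨t + x.a, x.v⟩ := by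
  apply Heis.ext
  · simp
  · simp

theorem eq_cen_mul_lift (x : Heis M) : x = cen x.a * lift x.v := by
  rw [cen_mul]
  apply Heis.ext
  · simp
  · simp

variable (hG : Good (Heis M) cc)

include hG in
theorem aut_cc (α : MulAut (Heis M)) : α cc = cc := by
  have h1 : ∀ h : Heis M, α cc * h = h * α cc := by
    intro h
    obtain ⟨k, rfl⟩ := α.surjective h
    rw [← map_mul, ← map_mul, (cc_central k).symm]
  rcases hG.cent _ h1 with h2 | h2
  · exfalso
    apply cc_ne_one (M := M)
    have : α cc = α 1 := by rw [h2, map_one]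
    exact α.injective this
  · exact h2

include hG in
theorem aut_cen (α : MulAut (Heis M)) (t : ZMod 2) : α (cen t) = cen t := by
  rcases cen_cases (M := M) t with h | h
  · rw [h, map_one]
  · rw [h, aut_cc hG]

include hG in
theorem aut_apply (α : MulAut (Heis M)) (x : Heis M) :
    α x = ⟨x.a + (α (lift x.v)).a, (α (lift x.v)).v⟩ := by
  conv_lhs => rw [eq_cen_mul_lift x, map_mul, aut_cen hG, cen_mul]

include hG in
theorem v_aut_eq (α : MulAut (Heis M)) (x : Heis M) : (α x).v = (α (lift x.v)).v := by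
  rw [aut_apply hG α x]

/-- The additive map induced on `V = E / Z`. -/
def barHom (α : MulAut (Heis M)) : (ι → ZMod 2) →+ (ι → ZMod 2) where
  toFun v := (α (lift v)).v
  map_zero' := by
    have : (lift 0 : Heis M) = 1 := rfl
    rw [this, map_one]; rfl
  map_add' v w := by
    have h1 : (α (lift v * lift w)).v = (α (lift (v + w))).v := by
      rw [v_aut_eq hG α (lift v * lift w)]; rfl
    rw [← h1, map_mul]; rfl

theorem barHom_apply (α : MulAut (Heis M)) (v : ι → ZMod 2) :
    barHom hG α v = (α (lift v)).v := rfl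

/-- The linear map induced on `V`. -/
def barLin (α : MulAut (Heis M)) : (ι → ZMod 2) →ₗ[ZMod 2] (ι → ZMod 2) :=
  (barHom hG α).toZModLinearMap 2

theorem barLin_apply (α : MulAut (Heis M)) (v : ι → ZMod 2) :
    barLin hG α v = (α (lift v)).v := rfl

theorem barLin_mul (α α' : MulAut (Heis M)) :
    barLin hG (α * α') = (barLin hG α) ∘ₗ (barLin hG α') := by
  apply LinearMap.ext
  intro v
  rw [LinearMap.comp_apply, barLin_apply, barLin_apply, barLin_apply, MulAut.mul_apply,
    v_aut_eq hG α (α' (lift v))]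

theorem barLin_one : barLin hG (1 : MulAut (Heis M)) = LinearMap.id := by
  apply LinearMap.ext
  intro v
  rw [barLin_apply]; rfl

/-- The matrix of the induced map, as a monoid homomorphism. -/
def matHom : MulAut (Heis M) →* Matrix ι ι (ZMod 2) where
  toFun α := LinearMap.toMatrix' (barLin hG α)
  map_one' := by rw [barLin_one, LinearMap.toMatrix'_id]
  map_mul' α α' := by rw [barLin_mul, LinearMap.toMatrix'_comp]

theorem matHom_mulVec (α : MulAut (Heis M)) (v : ι → ZMod 2) :
    matHom hG α *ᵥ v = (α (lift v)).v := by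
  show LinearMap.toMatrix' (barLin hG α) *ᵥ v = _
  rw [LinearMap.toMatrix'_mulVec, barLin_apply]

include hG in
theorem qf_aut (α : MulAut (Heis M)) (v : ι → ZMod 2) : qf M ((α (lift v)).v) = qf M v := by
  have h1 : (lift v : Heis M) * lift v = cen (qf M v) := mul_self_eq _
  have h2 : α (lift v) * α (lift v) = cen (qf M ((α (lift v)).v)) := mul_self_eq _
  rw [← map_mul, h1, aut_cen hG] at h2
  exact (congrArg Heis.a h2).symm

/-- The homomorphism `Aut → O(Q)`. -/
def theta : MulAut (Heis M) →* Cfsg.isometryGroup (ZMod 2) (qf M) :=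
  (matHom hG).toHomUnits.codRestrict _ (by
    intro α u v
    show qf M (matHom hG α *ᵥ u) = qf M u
    rw [matHom_mulVec, qf_aut hG])

theorem theta_coe (α : MulAut (Heis M)) :
    (((theta hG α : Cfsg.isometryGroup (ZMod 2) (qf M)) : GL ι (ZMod 2)) : Matrix ι ι (ZMod 2)) =
      matHom hG α := rfl

theorem theta_eq_one_iff (α : MulAut (Heis M)) :
    theta hG α = 1 ↔ ∀ v, (α (lift v)).v = v := by
  constructor
  · intro h v
    have h1 : matHom hG α = 1 := by
      rw [← theta_coe, h]; rfl
    rw [← matHom_mulVec hG, h1, Matrix.one_mulVec]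
  · intro h
    apply Subtype.ext
    apply Units.ext
    show matHom hG α = 1
    have : barLin hG α = LinearMap.id := by
      apply LinearMap.ext
      intro v
      rw [barLin_apply, h]; rfl
    show LinearMap.toMatrix' (barLin hG α) = 1
    rw [this, LinearMap.toMatrix'_id]

/-- conjugation formula -/
theorem conj_eq (h x : Heis M) :
    h * x * h⁻¹ = cen (bform M h.v x.v + bform M x.v h.v) * x := by
  rw [mul_eq_comm_mul h x]
  have : (⟨bform M h.v x.v + bform M x.v h.v, 0⟩ : Heis M) = cen _ := rfl
  rw [this]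
  group

theorem inn_le_ker : Cfsg.Inn (Heis M) ≤ (theta hG).ker := by
  rintro _ ⟨h, rfl⟩
  rw [MonoidHom.mem_ker, theta_eq_one_iff]
  intro v
  rw [MulAut.conj_apply, conj_eq, cen_mul]
  rfl

end Heis

end Cfsg.Agent.Helper89
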