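import Mathlib
import Cfsg.Agent.Lib.Helper89.OutES.AutHeis

set_option autoImplicit false
set_option linter.unusedSectionVars false

namespace Cfsg.Agent.Helper89

open Matrix

section linalg

variable {ι : Type} [Fintype ι] [DecidableEq ι]

theorem bform_single (Γ : Matrix ι ι (ZMod 2)) (i j : ι) :
    bform Γ (Pi.single i 1) (Pi.single j 1) = Γ i j := by
  simp [bform]

theorem polar_eq (M : Matrix ι ι (ZMod 2)) (u w : ι → ZMod 2) :
    bform M u w + bform M w u = bform (M + Mᵀ) u w := by
  rw [bform_add_matrix, bform_transpose]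

/-- An alternating matrix has zero diagonal and is symmetric. -/
theorem alt_matrix (Γ : Matrix ι ι (ZMod 2)) (h : ∀ v, bform Γ v v = 0) :
    (∀ i, Γ i i = 0) ∧ (∀ i j, Γ i j = Γ j i) := by
  have hd : ∀ i, Γ i i = 0 := by
    intro i
    rw [← bform_single Γ i i]; exact h _
  refine ⟨hd, ?_⟩
  intro i j
  have h1 := h (Pi.single i 1 + Pi.single j 1)
  rw [bform_add_left, bform_add_right, bform_add_right, bform_single, bform_single, bform_single,
    bform_single, hd i, hd j] at h1
  have h2 : Γ i j + Γ j i = 0 := by linear_combination h1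
  have h3 := zmod2_add_self (Γ j i)
  linear_combination h2 - h3

/-- A symmetric matrix with zero diagonal is `N + Nᵀ`. -/
theorem exists_upper (Γ : Matrix ι ι (ZMod 2)) (hd : ∀ i, Γ i i = 0) (hs : ∀ i j, Γ i j = Γ j i) :
    ∃ N : Matrix ι ι (ZMod 2), N + Nᵀ = Γ := by
  let e := Fintype.equivFin ι
  refine ⟨Matrix.of fun i j => if e i < e j then Γ i j else 0, ?_⟩
  ext i j
  simp only [Matrix.add_apply, Matrix.transpose_apply, Matrix.of_apply]
  rcases lt_trichotomy (e i) (e j) with h | h | h
  · rw [if_pos h, if_neg (not_lt.mpr h.le), add_zero]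
  · have : i = j := e.injective h
    subst this
    simp [hd]
  · rw [if_neg (not_lt.mpr h.le), if_pos h, zero_add, hs]

/-- Riesz representation for a symmetric involutive matrix. -/
theorem riesz (A : Matrix ι ι (ZMod 2)) (hAs : Aᵀ = A) (hA : A * A = 1)
    (lam : (ι → ZMod 2) →+ ZMod 2) : ∃ u : ι → ZMod 2, ∀ w, lam w = bform A u w := by
  let L : (ι → ZMod 2) →ₗ[ZMod 2] ZMod 2 := lam.toZModLinearMap 2
  let ℓ : ι → ZMod 2 := fun i => L (Pi.single i 1)
  have hL : ∀ w, lam w = w ⬝ᵥ ℓ := by
    intro w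
    have h1 := LinearMap.pi_apply_eq_sum_univ L w
    have h2 : lam w = L w := rfl
    rw [h2, h1]
    unfold dotProduct
    apply Finset.sum_congr rfl
    intro i _
    have : (fun j => if i = j then (1 : ZMod 2) else 0) = Pi.single i 1 := by
      funext j
      rw [Pi.single_apply]
      by_cases hij : i = j
      · rw [if_pos hij, if_pos hij.symm]
      · rw [if_neg hij, if_neg (fun h => hij h.symm)]
    rw [this]
    rfl
  refine ⟨A *ᵥ ℓ, ?_⟩
  intro w
  rw [hL]
  unfold bform
  rw [dotProduct_comm (A *ᵥ ℓ), Matrix.dotProduct_mulVec, ← Matrix.mulVec_transpose, hAs,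
    Matrix.mulVec_mulVec, hA, Matrix.one_mulVec]

theorem nondeg_of_sq (M : Matrix ι ι (ZMod 2)) (hB : (M + Mᵀ) * (M + Mᵀ) = 1) :
    ∀ v : ι → ZMod 2, (∀ w, bform M v w + bform M w v = 0) → v = 0 := by
  intro v hv
  have h1 : v ᵥ* (M + Mᵀ) = 0 := by
    funext i
    have := hv (Pi.single i 1)
    rw [polar_eq] at this
    unfold bform at this
    rw [Matrix.dotProduct_mulVec, dotProduct_single_one] at this
    exact this
  calc v = v ᵥ* ((M + Mᵀ) * (M + Mᵀ)) := by rw [hB, Matrix.vecMul_one]
    _ = (v ᵥ* (M + Mᵀ)) ᵥ* (M + Mᵀ) := by rw [Matrix.vecMul_vecMul]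
    _ = 0 := by rw [h1, Matrix.zero_vecMul]

end linalg

namespace Heis

variable {ι : Type} [Fintype ι] [DecidableEq ι] {M : Matrix ι ι (ZMod 2)}

variable (hG : Good (Heis M) cc) (hB : (M + Mᵀ) * (M + Mᵀ) = 1)

include hB in
theorem ker_le_inn : (theta hG).ker ≤ Cfsg.Inn (Heis M) := by
  intro α hα
  rw [MonoidHom.mem_ker, theta_eq_one_iff] at hα
  let lam : (ι → ZMod 2) →+ ZMod 2 :=
    { toFun := fun v => (α (lift v)).a
      map_zero' := by
        have : (lift 0 : Heis M) = 1 := rfl
        rw [this, map_one]; rfl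
      map_add' := by
        intro v w
        have h1 : α (lift v * lift w) = α (lift v) * α (lift w) := map_mul _ _ _
        have h2 := congrArg Heis.a h1
        rw [aut_apply hG α (lift v * lift w)] at h2
        simp only [mul_a, mul_v, lift_a, lift_v, hα] at h2
        linear_combination h2 }
  have hAs : (M + Mᵀ)ᵀ = M + Mᵀ := by
    rw [Matrix.transpose_add, Matrix.transpose_transpose, add_comm]
  obtain ⟨u, hu⟩ := riesz (M + Mᵀ) hAs hB lam
  refine ⟨lift u, ?_⟩
  apply MulEquiv.ext
  intro x
  rw [MulAut.conj_apply, conj_eq, cen_mul, aut_apply hG α x, hα]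
  apply Heis.ext
  · simp only [lift_v]
    have := hu x.v
    rw [← polar_eq] at this
    have h3 : (α (lift x.v)).a = lam x.v := rfl
    rw [h3, this]; ring
  · rfl

include hB in
theorem ker_eq_inn : (theta hG).ker = Cfsg.Inn (Heis M) :=
  le_antisymm (ker_le_inn hG hB) (inn_le_ker hG)

/-- The endomorphism attached to a matrix `A` and a quadratic correction `N`. -/
def autHom (A N : Matrix ι ι (ZMod 2)) (hN : N + Nᵀ = Aᵀ * M * A + M) : Heis M →* Heis M where
  toFun x := ⟨x.a + bform N x.v x.v, A *ᵥ x.v⟩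
  map_one' := by
    apply Heis.ext
    · simp
    · simp
  map_mul' x y := by
    apply Heis.ext
    · simp only [mul_a, mul_v]
      have h1 : bform N x.v y.v + bform N y.v x.v =
          bform M (A *ᵥ x.v) (A *ᵥ y.v) + bform M x.v y.v := by
        rw [polar_eq, hN, bform_add_matrix, bform_mulVec]
      rw [bform_add_left, bform_add_right, bform_add_right]
      have h2 := zmod2_add_self (bform M x.v y.v)
      linear_combination h1 + h2
    · simp only [mul_v, Matrix.mulVec_add]

theorem autHom_bijective (A A' N : Matrix ι ι (ZMod 2)) (hN : N + Nᵀ = Aᵀ * M * A + M)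
    (hA : A' * A = 1) : Function.Bijective (autHom A N hN : Heis M → Heis M) := by
  have hinj : Function.Injective (autHom A N hN : Heis M → Heis M) := by
    intro x y hxy
    have hv : A *ᵥ x.v = A *ᵥ y.v := congrArg Heis.v hxy
    have hv' : x.v = y.v := by
      have := congrArg (fun t => A' *ᵥ t) hv
      simpa [Matrix.mulVec_mulVec, hA] using this
    have ha : x.a + bform N x.v x.v = y.a + bform N y.v y.v := congrArg Heis.a hxy
    rw [hv'] at ha
    exact Heis.ext (add_right_cancel ha) hv'
  exact ⟨hinj, Finite.injective_iff_surjective.mp hinj⟩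

include hG in
theorem theta_surjective : Function.Surjective (theta hG) := by
  intro g
  set A : Matrix ι ι (ZMod 2) := ((g : GL ι (ZMod 2)) : Matrix ι ι (ZMod 2)) with hA
  set A' : Matrix ι ι (ZMod 2) := (((g : GL ι (ZMod 2))⁻¹ : GL ι (ZMod 2)) : Matrix ι ι (ZMod 2))
    with hA'
  have hA'A : A' * A = 1 := by
    rw [hA, hA', ← Units.val_mul, inv_mul_cancel]; rfl
  have hpres : ∀ u : ι → ZMod 2, qf M (A *ᵥ u) = qf M u := fun u => g.2 u u
  have halt : ∀ v, bform (Aᵀ * M * A + M) v v = 0 := by
    intro v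
    rw [bform_add_matrix, ← bform_mulVec]
    have := hpres v
    unfold qf at this
    rw [this]
    exact zmod2_add_self _
  obtain ⟨hd, hs⟩ := alt_matrix _ halt
  obtain ⟨N, hN⟩ := exists_upper _ hd hs
  let α : MulAut (Heis M) := MulEquiv.ofBijective (autHom A N hN) (autHom_bijective A A' N hN hA'A)
  refine ⟨α, ?_⟩
  apply Subtype.ext
  apply Units.ext
  show matHom hG α = A
  have : barLin hG α = Matrix.toLin' A := by
    apply LinearMap.ext
    intro v
    rw [barLin_apply, Matrix.toLin'_apply]
    rfl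
  show LinearMap.toMatrix' (barLin hG α) = A
  rw [this, LinearMap.toMatrix'_toLin']

/-- `Out(Heis M) ≅ O(Q_M)`. -/
noncomputable def outEquiv : Cfsg.Out (Heis M) ≃* Cfsg.isometryGroup (ZMod 2) (qf M) :=
  (QuotientGroup.quotientMulEquivOfEq (ker_eq_inn hG hB).symm).trans
    (QuotientGroup.quotientKerEquivOfSurjective (theta hG) (theta_surjective hG))

end Heis

end Cfsg.Agent.Helper89
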