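import Mathlib
import Cfsg.Agent.Lib.Helper89.OutES.AutHeis2
import Cfsg.Agent.Lib.Helper89.Classify.Cor

set_option autoImplicit false
set_option linter.unusedSectionVars false

namespace Cfsg.Agent.Helper89

open Matrix

namespace Heis

section general

variable {ι : Type} [Fintype ι] {M : Matrix ι ι (ZMod 2)}

/-- The central involution, bundled. -/
def cinv : CentralInv (Heis M) := ⟨cc, cc_central, cc_mul_cc⟩

@[simp] theorem cinv_val : (cinv : CentralInv (Heis M)).val = cc := rfl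

theorem cinv_pw (t : ZMod 2) : (cinv : CentralInv (Heis M)).pw t = ⟨t, 0⟩ := by
  rcases zmod2_cases t with rfl | rfl
  · simp; rfl
  · simp; rfl

variable {ι' : Type} [Fintype ι'] {M' : Matrix ι' ι' (ZMod 2)}

/-- Splitting off a hyperbolic pair: `Heis M ≅ Heis M' ∘ D₈`. -/
noncomputable def twistEquiv (r : (ι → ZMod 2) →+ (ι' → ZMod 2)) (px py : (ι → ZMod 2) →+ ZMod 2)
    (hform : ∀ v w, bform M v w = bform M' (r v) (r w) + py v * px w)
    (hinj : ∀ v, r v = 0 → px v = 0 → py v = 0 → v = 0)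
    (hcard : Fintype.card ι = Fintype.card ι' + 2) :
    Heis M ≃* Twist (Heis M') cinv 0 0 :=
  let f : Heis M →* Twist (Heis M') cinv 0 0 :=
    { toFun := fun x => ⟨⟨x.a, r x.v⟩, px x.v, py x.v⟩
      map_one' := by
        apply Twist.ext
        · apply Heis.ext
          · rfl
          · simp
        · simp
        · simp
      map_mul' := by
        intro x y
        apply Twist.ext
        · simp only [Twist.mul_g, cinv_pw, beta]
          apply Heis.ext
          · simp only [mul_a, mul_v, hform, bform_zero_right]; ring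
          · simp only [mul_v, map_add, add_zero]
        · simp only [Twist.mul_x, mul_v, map_add]
        · simp only [Twist.mul_y, mul_v, map_add] }
  MulEquiv.ofBijective f (by
    have hinj' : Function.Injective f := by
      rw [injective_iff_map_eq_one]
      intro x hx
      have h1 : (f x).g = 1 := by rw [hx]; rfl
      have h2 : (f x).x = 0 := by rw [hx]; rfl
      have h3 : (f x).y = 0 := by rw [hx]; rfl
      have ha : x.a = 0 := congrArg Heis.a h1
      have hr : r x.v = 0 := congrArg Heis.v h1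
      exact Heis.ext ha (hinj x.v hr h2 h3)
    apply hinj'.bijective_of_nat_card_le
    rw [Twist.card_eq, card_eq, card_eq, hcard]
    have : 2 ^ (Fintype.card ι' + 2) = 2 ^ Fintype.card ι' * 4 := by ring
    rw [this]
    exact le_of_eq (by ring))

end general

end Heis

/-! ### The standard matrices -/

/-- The matrix of the hyperbolic form on `Fin n ⊕ Fin n` (lower left block). -/
def Mp (n : ℕ) : Matrix (Fin n ⊕ Fin n) (Fin n ⊕ Fin n) (ZMod 2) := Matrix.fromBlocks 0 0 1 0

/-- The matrix of the anisotropic binary form. -/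
def J2 : Matrix (Fin 2) (Fin 2) (ZMod 2) := !![1, 0; 1, 1]

/-- The matrix of the elliptic form on `(Fin m ⊕ Fin m) ⊕ Fin 2`. -/
def Mm (m : ℕ) : Matrix ((Fin m ⊕ Fin m) ⊕ Fin 2) ((Fin m ⊕ Fin m) ⊕ Fin 2) (ZMod 2) :=
  Matrix.fromBlocks (Mp m) 0 0 J2

theorem bform_Mp (n : ℕ) (v w : Fin n ⊕ Fin n → ZMod 2) :
    bform (Mp n) v w = ∑ i : Fin n, v (Sum.inr i) * w (Sum.inl i) := by
  unfold bform Mp
  rw [Matrix.fromBlocks_mulVec]
  simp only [Matrix.zero_mulVec, Matrix.one_mulVec, add_zero]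
  unfold dotProduct
  rw [Fintype.sum_sum_type]
  simp

theorem bform_J2 (v w : Fin 2 → ZMod 2) :
    bform J2 v w = v 0 * w 0 + v 1 * w 0 + v 1 * w 1 := by
  unfold bform J2
  simp [dotProduct, Matrix.mulVec, Fin.sum_univ_two]
  ring

theorem bform_Mm (m : ℕ) (v w : (Fin m ⊕ Fin m) ⊕ Fin 2 → ZMod 2) :
    bform (Mm m) v w = (∑ i : Fin m, v (Sum.inl (Sum.inr i)) * w (Sum.inl (Sum.inl i))) +
      (v (Sum.inr 0) * w (Sum.inr 0) + v (Sum.inr 1) * w (Sum.inr 0) +
        v (Sum.inr 1) * w (Sum.inr 1)) := by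
  have h1 : bform (Mm m) v w = bform (Mp m) (v ∘ Sum.inl) (w ∘ Sum.inl) +
      bform J2 (v ∘ Sum.inr) (w ∘ Sum.inr) := by
    unfold bform Mm
    rw [Matrix.fromBlocks_mulVec]
    simp only [Matrix.zero_mulVec, add_zero, zero_add]
    unfold dotProduct
    rw [Fintype.sum_sum_type]
    rfl
  rw [h1, bform_Mp, bform_J2]
  rfl

theorem qf_Mp (n : ℕ) : Heis.qf (Mp n) = Cfsg.quadFormPlus n (ZMod 2) := by
  funext v
  unfold Heis.qf Cfsg.quadFormPlus
  rw [bform_Mp]
  apply Finset.sum_congr rfl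
  intro i _
  exact mul_comm _ _

theorem qf_Mm (m : ℕ) : Heis.qf (Mm m) = Cfsg.quadFormMinus m (ZMod 2) 1 1 := by
  funext v
  unfold Heis.qf Cfsg.quadFormMinus
  rw [bform_Mm]
  congr 1
  · apply Finset.sum_congr rfl
    intro i _
    exact mul_comm _ _
  · ring

theorem J2_sq : (J2 + J2ᵀ) * (J2 + J2ᵀ) = 1 := by
  unfold J2
  decide

theorem Mp_sq (n : ℕ) : (Mp n + (Mp n)ᵀ) * (Mp n + (Mp n)ᵀ) = 1 := by
  unfold Mp
  rw [Matrix.fromBlocks_transpose, Matrix.fromBlocks_add, Matrix.fromBlocks_multiply]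
  simp [Matrix.fromBlocks_one]

theorem Mm_sq (m : ℕ) : (Mm m + (Mm m)ᵀ) * (Mm m + (Mm m)ᵀ) = 1 := by
  unfold Mm
  rw [Matrix.fromBlocks_transpose, Matrix.fromBlocks_add, Matrix.fromBlocks_multiply]
  simp only [Matrix.transpose_zero, add_zero, Matrix.mul_zero, Matrix.zero_mul, Mp_sq, J2_sq]
  rw [zero_add, Matrix.fromBlocks_one]

theorem good_Mp (n : ℕ) : Good (Heis (Mp n)) Heis.cc := Heis.good (nondeg_of_sq _ (Mp_sq n))

theorem good_Mm (m : ℕ) : Good (Heis (Mm m)) Heis.cc := Heis.good (nondeg_of_sq _ (Mm_sq m))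

theorem card_Mp (n : ℕ) : Nat.card (Heis (Mp n)) = 2 ^ (2 * n + 1) := by
  rw [Heis.card_eq]
  simp only [Fintype.card_sum, Fintype.card_fin]
  ring

theorem card_Mm (m : ℕ) : Nat.card (Heis (Mm m)) = 2 ^ (2 * (m + 1) + 1) := by
  rw [Heis.card_eq]
  simp only [Fintype.card_sum, Fintype.card_fin]
  ring

end Cfsg.Agent.Helper89
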