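import Mathlib
import Cfsg.Agent.Lib.Helper89.OutES.Models

set_option autoImplicit false
set_option linter.unusedSectionVars false

namespace Cfsg.Agent.Helper89

open Matrix

/-- restriction of coordinates, plus case -/
def rP (n : ℕ) : (Fin (n + 1) ⊕ Fin (n + 1) → ZMod 2) →+ (Fin n ⊕ Fin n → ZMod 2) where
  toFun v := fun s => v (Sum.map Fin.castSucc Fin.castSucc s)
  map_zero' := rfl
  map_add' _ _ := rfl

def pxP (n : ℕ) : (Fin (n + 1) ⊕ Fin (n + 1) → ZMod 2) →+ ZMod 2 where
  toFun v := v (Sum.inl (Fin.last n))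
  map_zero' := rfl
  map_add' _ _ := rfl

def pyP (n : ℕ) : (Fin (n + 1) ⊕ Fin (n + 1) → ZMod 2) →+ ZMod 2 where
  toFun v := v (Sum.inr (Fin.last n))
  map_zero' := rfl
  map_add' _ _ := rfl

/-- `Heis (Mp (n+1)) ≅ Heis (Mp n) ∘ D₈`. -/
noncomputable def stepP (n : ℕ) : Heis (Mp (n + 1)) ≃* Twist (Heis (Mp n)) Heis.cinv 0 0 :=
  Heis.twistEquiv (rP n) (pxP n) (pyP n)
    (by
      intro v w
      rw [bform_Mp, bform_Mp, Fin.sum_univ_castSucc]
      rfl)
    (by
      intro v hr hx hy
      funext s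
      rcases s with i | i
      · refine Fin.lastCases ?_ (fun j => ?_) i
        · exact hx
        · exact congrFun hr (Sum.inl j)
      · refine Fin.lastCases ?_ (fun j => ?_) i
        · exact hy
        · exact congrFun hr (Sum.inr j))
    (by
      simp only [Fintype.card_sum, Fintype.card_fin]
      omega)

/-- restriction of coordinates, minus case -/
def rM (m : ℕ) : ((Fin (m + 1) ⊕ Fin (m + 1)) ⊕ Fin 2 → ZMod 2) →+
    ((Fin m ⊕ Fin m) ⊕ Fin 2 → ZMod 2) where
  toFun v := fun s => v (Sum.map (Sum.map Fin.castSucc Fin.castSucc) id s)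
  map_zero' := rfl
  map_add' _ _ := rfl

def pxM (m : ℕ) : ((Fin (m + 1) ⊕ Fin (m + 1)) ⊕ Fin 2 → ZMod 2) →+ ZMod 2 where
  toFun v := v (Sum.inl (Sum.inl (Fin.last m)))
  map_zero' := rfl
  map_add' _ _ := rfl

def pyM (m : ℕ) : ((Fin (m + 1) ⊕ Fin (m + 1)) ⊕ Fin 2 → ZMod 2) →+ ZMod 2 where
  toFun v := v (Sum.inl (Sum.inr (Fin.last m)))
  map_zero' := rfl
  map_add' _ _ := rfl

/-- `Heis (Mm (m+1)) ≅ Heis (Mm m) ∘ D₈`. -/
noncomputable def stepM (m : ℕ) : Heis (Mm (m + 1)) ≃* Twist (Heis (Mm m)) Heis.cinv 0 0 :=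
  Heis.twistEquiv (rM m) (pxM m) (pyM m)
    (by
      intro v w
      rw [bform_Mm, bform_Mm, Fin.sum_univ_castSucc]
      have e1 : ∀ i : Fin m, (rM m v) (Sum.inl (Sum.inr i)) = v (Sum.inl (Sum.inr i.castSucc)) :=
        fun _ => rfl
      have e2 : ∀ i : Fin m, (rM m w) (Sum.inl (Sum.inl i)) = w (Sum.inl (Sum.inl i.castSucc)) :=
        fun _ => rfl
      have e3 : ∀ j : Fin 2, (rM m v) (Sum.inr j) = v (Sum.inr j) := fun _ => rfl
      have e4 : ∀ j : Fin 2, (rM m w) (Sum.inr j) = w (Sum.inr j) := fun _ => rfl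
      simp only [e1, e2, e3, e4]
      have e5 : pyM m v = v (Sum.inl (Sum.inr (Fin.last m))) := rfl
      have e6 : pxM m w = w (Sum.inl (Sum.inl (Fin.last m))) := rfl
      rw [e5, e6]
      ring)
    (by
      intro v hr hx hy
      funext s
      rcases s with (i | i) | j
      · refine Fin.lastCases ?_ (fun j => ?_) i
        · exact hx
        · exact congrFun hr (Sum.inl (Sum.inl j))
      · refine Fin.lastCases ?_ (fun j => ?_) i
        · exact hy
        · exact congrFun hr (Sum.inl (Sum.inr j))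
      · exact congrFun hr (Sum.inr j))
    (by
      simp only [Fintype.card_sum, Fintype.card_fin]
      omega)

theorem z2c_pw (t : ZMod 2) : z2c.pw t = Multiplicative.ofAdd t := by
  revert t; decide

/-- The base of the minus family is the quaternion group. -/
noncomputable def baseM : Heis (Mm 0) ≃* Twist (Multiplicative (ZMod 2)) z2c 1 1 :=
  let f : Heis (Mm 0) →* Twist (Multiplicative (ZMod 2)) z2c 1 1 :=
    { toFun := fun x => ⟨Multiplicative.ofAdd x.a, x.v (Sum.inr 0), x.v (Sum.inr 1)⟩
      map_one' := rfl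
      map_mul' := by
        intro x y
        apply Twist.ext
        · simp only [Twist.mul_g, z2c_pw, Heis.mul_a, bform_Mm, beta]
          rw [← ofAdd_add, ← ofAdd_add]
          congr 1
          simp only [Finset.univ_eq_empty, Finset.sum_empty]
          ring
        · rfl
        · rfl }
  MulEquiv.ofBijective f (by
    have hinj' : Function.Injective f := by
      rw [injective_iff_map_eq_one]
      intro x hx
      have h1 : (f x).g = 1 := by rw [hx]; rfl
      have h2 : (f x).x = 0 := by rw [hx]; rfl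
      have h3 : (f x).y = 0 := by rw [hx]; rfl
      have ha : x.a = 0 := h1
      apply Heis.ext ha
      funext s
      rcases s with (i | i) | j
      · exact i.elim0
      · exact i.elim0
      · fin_cases j
        · exact h2
        · exact h3
    apply hinj'.bijective_of_nat_card_le
    rw [Twist.card_eq, card_Mm, Twist.card_mult_zmod_two]
    norm_num)

theorem isPlus_Mp : ∀ n : ℕ, IsPlus (Heis (Mp n)) n := by
  intro n
  induction n with
  | zero =>
    obtain ⟨φ, _⟩ := (good_Mp 0).exists_equiv_of_card_two (by rw [card_Mp]; norm_num)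
    exact isPlus_z2.congr φ
  | succ n ih =>
    have h1 : IsPlus (Twist (Heis (Mp n)) Heis.cinv 0 0) (n + 1) :=
      IsPlus.twist (c := Heis.cinv) (good_Mp n) (card_Mp n) ih
    exact h1.congr (stepP n).symm

theorem isMinus_Mm : ∀ m : ℕ, IsMinus (Heis (Mm m)) (m + 1) := by
  intro m
  induction m with
  | zero => exact isMinus_q8.congr baseM.symm
  | succ m ih =>
    have h1 : IsMinus (Twist (Heis (Mm m)) Heis.cinv 0 0) (m + 1 + 1) :=
      IsMinus.twist (c := Heis.cinv) (good_Mm m) (card_Mm m) ih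
    exact h1.congr (stepM m).symm

end Cfsg.Agent.Helper89
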