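import Mathlib
import Cfsg.Agent.Lib.Helper89.OutES.Types

set_option autoImplicit false

namespace Cfsg.Agent.Helper89

universe u v

theorem conj_congr {E : Type u} {E' : Type v} [Group E] [Group E'] (φ : E ≃* E') (g : E) :
    MulAut.congr φ (MulAut.conj g) = MulAut.conj (φ g) := by
  apply MulEquiv.ext
  intro x
  simp [MulAut.congr, MulAut.conj_apply]

/-- Isomorphic groups have isomorphic outer automorphism groups. -/
noncomputable def outCongr {E : Type u} {E' : Type v} [Group E] [Group E'] (φ : E ≃* E') :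
    Cfsg.Out E ≃* Cfsg.Out E' :=
  QuotientGroup.congr (Cfsg.Inn E) (Cfsg.Inn E') (MulAut.congr φ) (by
    ext α
    constructor
    · rintro ⟨_, ⟨g, rfl⟩, rfl⟩
      exact ⟨φ g, (conj_congr φ g).symm⟩
    · rintro ⟨g', rfl⟩
      refine ⟨MulAut.conj (φ.symm g'), ⟨_, rfl⟩, ?_⟩
      show MulAut.congr φ (MulAut.conj (φ.symm g')) = _
      rw [conj_congr, MulEquiv.apply_symm_apply])

/-- `Out` of an extraspecial `2`-group is the orthogonal group of the corresponding type. -/
theorem out_extraspecial {E : Type u} [Group E] [Finite E] (hE : Cfsg.IsExtraspecial 2 E) (n : ℕ)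
    (hn : 1 ≤ n) (hcard : Nat.card E = 2 ^ (2 * n + 1)) :
    ((∃ A : Subgroup E, Cfsg.IsElementaryAbelian 2 A ∧ Nat.card ↥A = 2 ^ (n + 1)) →
      Nonempty (Cfsg.Out E ≃* Cfsg.isometryGroup (ZMod 2) (Cfsg.quadFormPlus n (ZMod 2)))) ∧
    ((¬ ∃ A : Subgroup E, Cfsg.IsElementaryAbelian 2 A ∧ Nat.card ↥A = 2 ^ (n + 1)) →
      Nonempty (Cfsg.Out E ≃*
        Cfsg.isometryGroup (ZMod 2) (Cfsg.quadFormMinus (n - 1) (ZMod 2) 1 1))) := by
  obtain ⟨c, n', hG, _, hcard', htype⟩ := extraspecial_type hE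
  have hnn : n' = n := pow_two_injective (hcard'.symm.trans hcard)
  subst hnn
  constructor
  · intro hA
    have hplus : IsPlus E n' := by
      rcases htype with h | h
      · exact h
      · exfalso
        obtain ⟨A, hA1, hA2⟩ := hA
        have := h.2.2 A hA1
        rw [hA2] at this
        have : 2 ^ (n' + 1) = 2 * 2 ^ n' := by ring
        have hpos : 0 < 2 ^ n' := by positivity
        omega
    obtain ⟨φ⟩ := extraspecial_iso hG (good_Mp n') hcard (card_Mp n')
      (Or.inl ⟨hplus, isPlus_Mp n'⟩)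
    have e1 : Cfsg.Out E ≃* Cfsg.Out (Heis (Mp n')) := outCongr φ
    have e2 : Cfsg.Out (Heis (Mp n')) ≃* Cfsg.isometryGroup (ZMod 2) (Heis.qf (Mp n')) :=
      Heis.outEquiv (good_Mp n') (Mp_sq n')
    rw [qf_Mp] at e2
    exact ⟨e1.trans e2⟩
  · intro hA
    have hminus : IsMinus E n' := by
      rcases htype with h | h
      · exact absurd h.2.1 hA
      · exact h
    obtain ⟨m, rfl⟩ : ∃ m, n' = m + 1 := ⟨n' - 1, by omega⟩
    obtain ⟨φ⟩ := extraspecial_iso hG (good_Mm m) hcard (card_Mm m)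
      (Or.inr ⟨hminus, isMinus_Mm m⟩)
    have e1 : Cfsg.Out E ≃* Cfsg.Out (Heis (Mm m)) := outCongr φ
    have e2 : Cfsg.Out (Heis (Mm m)) ≃* Cfsg.isometryGroup (ZMod 2) (Heis.qf (Mm m)) :=
      Heis.outEquiv (good_Mm m) (Mm_sq m)
    rw [qf_Mm] at e2
    have e3 : m + 1 - 1 = m := by omega
    rw [e3]
    exact ⟨e1.trans e2⟩

end Cfsg.Agent.Helper89
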